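import Groth.Agent.GabLib.Uniform
import Groth.Prelude.Def_W4c5qcohlocdualityLoc

/-!
# Closed objects for the localizing closure
-/

set_option autoImplicit false

universe w v u

open CategoryTheory CategoryTheory.Limits

namespace Groth.Agent.GabLib

variable {C : Type u} [Category.{v} C] [Abelian C] [IsGrothendieckAbelian.{w} C]

omit [IsGrothendieckAbelian.{w} C] in
theorem isLocalizing_hom_zero (E E' : C) [Injective E] [Injective E'] :
    GabLoc.IsLocalizing.{w} (fun X : C => (∀ f : X ⟶ E, f = 0) ∧ ∀ f : X ⟶ E', f = 0) := by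
  refine ⟨?_, fun J => ⟨?_⟩⟩
  · refine
      { exists_zero := ⟨_, isZero_zero C, fun f => (isZero_zero C).eq_of_src _ _,
          fun f => (isZero_zero C).eq_of_src _ _⟩
        prop_of_mono := ?_, prop_of_epi := ?_, prop_X₂_of_shortExact := ?_ }
    · intro X Y i _ hY
      exact ⟨fun f => by rw [← Injective.comp_factorThru f i, hY.1 (Injective.factorThru f i), comp_zero],
        fun f => by rw [← Injective.comp_factorThru f i, hY.2 (Injective.factorThru f i), comp_zero]⟩
    · intro X Y p _ hX
      exact ⟨fun f => zero_of_epi_comp p (hX.1 _), fun f => zero_of_epi_comp p (hX.2 _)⟩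
    · intro S hS h₁ h₃
      haveI := hS.epi_g
      refine ⟨fun f => ?_, fun f => ?_⟩
      · obtain ⟨l, hl⟩ : ∃ l, S.g ≫ l = f := ⟨hS.exact.desc f (h₁.1 _), hS.exact.g_desc _ _⟩
        rw [← hl, h₃.1 l, comp_zero]
      · obtain ⟨l, hl⟩ : ∃ l, S.g ≫ l = f := ⟨hS.exact.desc f (h₁.2 _), hS.exact.g_desc _ _⟩
        rw [← hl, h₃.2 l, comp_zero]
  · rintro X ⟨pres, h⟩
    exact ⟨fun f => pres.isColimit.hom_ext fun j => by rw [comp_zero]; exact (h j).1 _,
      fun f => pres.isColimit.hom_ext fun j => by rw [comp_zero]; exact (h j).2 _⟩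

omit [IsGrothendieckAbelian.{w} C] in
/-- No maps from `P` into an essential extension of a `P`-torsion free object. -/
theorem hom_zero_of_essential (P : ObjectProperty C) [P.IsClosedUnderSubobjects] [P.IsClosedUnderQuotients]
    {F E : C} (i : F ⟶ E) [Mono i] (hess : ∀ ⦃K : C⦄ (z : K ⟶ E), Mono (z ≫ cokernel.π i) → z = 0)
    (hF : ∀ ⦃Y : C⦄, P Y → ∀ f : Y ⟶ F, f = 0) ⦃Y : C⦄ (hY : P Y) (f : Y ⟶ E) : f = 0 := by
  let a := image.ι f
  have hA : P (image f) := P.prop_of_epi (factorThruImage f) hY
  let k := kernel.ι (a ≫ cokernel.π i)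
  let l := Abelian.monoLift i (k ≫ a) (by rw [Category.assoc]; exact kernel.condition _)
  have hl : l = 0 := hF (P.prop_of_mono k hA) l
  have hk : k = 0 := by
    rw [← cancel_mono a, zero_comp, ← Abelian.monoLift_comp i (k ≫ a) (by rw [Category.assoc]; exact kernel.condition _)]
    show l ≫ i = 0
    rw [hl, zero_comp]
  rw [← image.fac f, show image.ι f = 0 from hess a (Abelian.mono_of_kernel_ι_eq_zero _ hk), comp_zero]

/-- Closedness passes to the localizing closure of a class stable under subobjects and quotients. -/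
theorem isClosedFor_locClosure_iff (P : ObjectProperty C) [P.IsClosedUnderSubobjects] [P.IsClosedUnderQuotients]
    (M : C) : GabLoc.IsClosedFor (GabLoc.locClosure.{w} P) M ↔ GabLoc.IsClosedFor P M := by
  have hle : P ≤ GabLoc.locClosure.{w} P := fun X hX Q _ hPQ => hPQ X hX
  refine ⟨fun h => ⟨fun Y hY => h.1 (hle _ hY), fun N Y i p hp hY => h.2 i p hp (hle _ hY)⟩, fun h => ?_⟩
  obtain ⟨E, i, hi, hE, hess⟩ := exists_essential_injective.{w} M
  obtain ⟨E', j, hj, hE', hess'⟩ := exists_essential_injective.{w} (cokernel i)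
  have hPE := hom_zero_of_essential P i hess h.1
  have hPc : ∀ ⦃Y : C⦄, P Y → ∀ f : Y ⟶ cokernel i, f = 0 := fun Y hY f => by
    let s : M ⟶ pullback (cokernel.π i) f := pullback.lift i 0 (by rw [cokernel.condition, zero_comp])
    have hs : s ≫ pullback.snd (cokernel.π i) f = 0 := pullback.lift_snd _ _ _
    haveI : Mono s := mono_of_mono_fac (pullback.lift_fst _ _ _)
    have hS : (ShortComplex.mk s (pullback.snd _ _) hs).ShortExact :=
      { exact := by
          refine ShortComplex.exact_of_f_is_kernel _ (KernelFork.IsLimit.ofι' s hs fun {A} g hg =>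
            ⟨Abelian.monoLift i (g ≫ pullback.fst _ _) (by
              rw [Category.assoc, pullback.condition, ← Category.assoc, hg, zero_comp]), ?_⟩)
          apply pullback.hom_ext
          · rw [Category.assoc, pullback.lift_fst, Abelian.monoLift_comp]
          · rw [Category.assoc, hs, comp_zero, hg] }
    obtain ⟨⟨⟨r, hr⟩⟩⟩ := h.2 s _ hs hY hS
    let sp := ShortComplex.Splitting.ofExactOfRetraction _ hS.exact r hr hS.epi_g
    have h1 : sp.s ≫ pullback.fst (cokernel.π i) f = 0 := hPE hY _
    calc f = (sp.s ≫ pullback.snd (cokernel.π i) f) ≫ f := by rw [sp.s_g, Category.id_comp]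
      _ = (sp.s ≫ pullback.fst (cokernel.π i) f) ≫ cokernel.π i := by
        rw [Category.assoc, Category.assoc, pullback.condition]
      _ = 0 := by rw [h1, zero_comp]
  have hPE' := hom_zero_of_essential P j hess' hPc
  have hQ : ∀ X, GabLoc.locClosure.{w} P X → (∀ f : X ⟶ E, f = 0) ∧ ∀ f : X ⟶ E', f = 0 := fun X hX =>
    hX _ (isLocalizing_hom_zero E E') fun Y hY => ⟨fun f => hPE hY f, fun f => hPE' hY f⟩
  refine ⟨fun Y hY f => by rw [← cancel_mono i, zero_comp]; exact (hQ _ hY).1 _, fun N Y a p hp hY hS => ?_⟩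
  haveI := hS.mono_f
  haveI := hS.epi_g
  let l := Injective.factorThru i a
  have hl : a ≫ l = i := Injective.comp_factorThru _ _
  have h0 : l ≫ cokernel.π i = 0 := by
    have h1 : a ≫ l ≫ cokernel.π i = 0 := by rw [← Category.assoc, hl, cokernel.condition]
    rw [← hS.exact.g_desc (l ≫ cokernel.π i) h1]
    have h2 : hS.exact.desc (l ≫ cokernel.π i) h1 = 0 := by
      rw [← cancel_mono j, zero_comp]; exact (hQ _ hY).2 _
    rw [h2, comp_zero]
  exact IsSplitMono.mk' ⟨Abelian.monoLift i l h0, by
    rw [← cancel_mono i, Category.assoc, Abelian.monoLift_comp, hl, Category.id_comp]⟩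

end Groth.Agent.GabLib
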