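import Groth.Agent.GabLib.Closed
import Mathlib.CategoryTheory.Abelian.GrothendieckCategory.EnoughInjectives
import Mathlib.CategoryTheory.Limits.Shapes.Products

/-!
# Transfinite filtrations of objects in a localizing closure
-/

set_option autoImplicit false

universe w v u

open CategoryTheory CategoryTheory.Limits ZeroObject

namespace Groth.Agent.GabLib

variable {C : Type u} [Category.{v} C] [Abelian C] [IsGrothendieckAbelian.{w} C] (P : ObjectProperty C)

instance : (GabLoc.subquotCoprod.{w} P).IsClosedUnderQuotients :=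
  ⟨fun f _ ⟨J, X, hX, B, i, p, hi, hp⟩ => ⟨J, X, hX, B, i, p ≫ f, hi, inferInstance⟩⟩

instance : (GabLoc.subquotCoprod.{w} P).IsClosedUnderSubobjects :=
  ⟨fun {A A'} f _ ⟨J, X, hX, B, i, p, hi, hp⟩ =>
    ⟨J, X, hX, pullback p f, pullback.fst p f ≫ i, pullback.snd p f, inferInstance, inferInstance⟩⟩

theorem subquotCoprod_of_isZero {X : C} (hX : IsZero X) : GabLoc.subquotCoprod.{w} P X := by
  refine ⟨PEmpty.{w + 1}, fun j => j.elim, fun j => j.elim, 0, 0, 0, (isZero_zero C).mono _, ?_⟩
  exact ⟨fun g h _ => hX.eq_of_src g h⟩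

theorem le_subquotCoprod : P ≤ GabLoc.subquotCoprod.{w} P := fun X hX =>
  ⟨PUnit.{w + 1}, fun _ => X, fun _ => hX, X, Sigma.ι (fun _ : PUnit.{w + 1} => X) PUnit.unit, 𝟙 X,
    (SplitMono.mk (Sigma.desc fun _ => 𝟙 X) (Sigma.ι_desc _ _)).mono, inferInstance⟩

theorem prop_of_epi_from_coproduct {Q : ObjectProperty C} (hQ : GabLoc.IsLocalizing.{w} Q) {J : Type w}
    (X : J → C) (hX : ∀ j, Q (X j)) {Y : C} (f : ∐ X ⟶ Y) [Epi f] : Q Y := by
  haveI := hQ.isSerreClass
  exact Q.prop_of_epi f ((hQ.isClosedUnderCoproducts J).colimitsOfShape_le _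
    ⟨⟨Discrete.functor X, (colimit.cocone _).ι, colimit.isColimit _⟩, fun j => hX j.as⟩)

theorem subquotCoprod_le {Q : ObjectProperty C} (hQ : GabLoc.IsLocalizing.{w} Q) (hPQ : P ≤ Q) :
    GabLoc.subquotCoprod.{w} P ≤ Q := fun A ⟨J, X, hX, B, i, p, hi, hp⟩ => by
  haveI := hQ.isSerreClass
  haveI : Epi (𝟙 (∐ X)) := inferInstance
  exact Q.prop_of_epi p (Q.prop_of_mono i (prop_of_epi_from_coproduct hQ X (fun j => hPQ _ (hX j)) (𝟙 _)))

theorem monoModSubquot_of_isIso {X Y : C} (f : X ⟶ Y) [IsIso f] : GabLoc.monoModSubquot.{w} P f :=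
  ⟨inferInstance, subquotCoprod_of_isZero P (isZero_cokernel_of_epi f)⟩

/-- A proper subobject of an object of the localizing closure has a strictly larger one with quotient a subquotient
of a coproduct. -/
theorem exists_larger {X : C} (hX : GabLoc.locClosure.{w} P X) (A : Subobject X) (hA : A ≠ ⊤) :
    ∃ (A' : Subobject X) (h : A < A'), GabLoc.monoModSubquot.{w} P (Subobject.ofLE A A' h.le) := by
  let T := cokernel A.arrow
  have hT : ¬ ∀ ⦃Y : C⦄, GabLoc.subquotCoprod.{w} P Y → ∀ f : Y ⟶ T, f = 0 := by
    intro h0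
    obtain ⟨E, i, hi, hE, hess⟩ := exists_essential_injective.{w} T
    have hE0 : ∀ ⦃Y : C⦄, P Y → ∀ f : Y ⟶ E, f = 0 := fun Y hY f =>
      hom_zero_of_essential (GabLoc.subquotCoprod.{w} P) i hess h0 (le_subquotCoprod P _ hY) f
    have h1 := (hX _ (isLocalizing_hom_zero E E) fun Y hY => ⟨fun f => hE0 hY f, fun f => hE0 hY f⟩).1
      (cokernel.π A.arrow ≫ i)
    have h2 : cokernel.π A.arrow = 0 := zero_of_comp_mono i h1
    haveI := Abelian.epi_of_cokernel_π_eq_zero _ h2
    haveI : IsIso A.arrow := isIso_of_mono_of_epi _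
    exact hA (Subobject.eq_top_of_isIso_arrow A)
  push Not at hT
  obtain ⟨Y, hY, g, hg⟩ := hT
  let K := image g
  have hK : GabLoc.subquotCoprod.{w} P K :=
    (GabLoc.subquotCoprod.{w} P).prop_of_epi (factorThruImage g) hY
  let π := cokernel.π A.arrow
  let a' := pullback.fst π (image.ι g)
  let A' := Subobject.mk a'
  have hle : A ≤ A' := Subobject.le_mk_of_comm (pullback.lift A.arrow 0 (by simp [π])) (pullback.lift_fst _ _ _)
  let q : (A' : C) ⟶ K := (Subobject.underlyingIso a').hom ≫ pullback.snd π (image.ι g)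
  have hq : q ≫ image.ι g = A'.arrow ≫ π := by
    simp only [q, Category.assoc, ← pullback.condition]
    rw [← Category.assoc]
    congr 1
    exact Subobject.underlyingIso_hom_comp_eq_mk _
  haveI : Epi q := epi_comp _ _
  have h0 : Subobject.ofLE A A' hle ≫ q = 0 := by
    rw [← cancel_mono (image.ι g), zero_comp, Category.assoc, hq, Subobject.ofLE_arrow_assoc, cokernel.condition]
  have hlt : A < A' := lt_of_le_of_ne hle fun he => by
    have hz : A'.arrow ≫ π = 0 := by rw [← he]; exact cokernel.condition _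
    have : image.ι g = 0 := by rw [← cancel_epi q, comp_zero, hq, hz]
    exact hg (by rw [← image.fac g, this, comp_zero])
  refine ⟨A', hlt, inferInstance, ?_⟩
  let S := ShortComplex.mk (Subobject.ofLE A A' hle) q h0
  have hS : S.Exact := by
    rw [ShortComplex.exact_iff_exact_up_to_refinements]
    intro Z x hx
    have h1 : (x ≫ A'.arrow) ≫ π = 0 := by
      rw [Category.assoc, ← hq, ← Category.assoc]
      exact (show (x ≫ q) ≫ image.ι g = 0 by rw [show x ≫ q = 0 from hx, zero_comp])
    refine ⟨Z, 𝟙 Z, inferInstance, Abelian.monoLift A.arrow (x ≫ A'.arrow) h1, ?_⟩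
    rw [← cancel_mono A'.arrow]
    simp [S, Abelian.monoLift_comp]
  exact (GabLoc.subquotCoprod.{w} P).prop_of_iso
    (IsColimit.coconePointUniqueUpToIso hS.gIsCokernel (colimit.isColimit _)) hK

/-- Filtrations from the localizing closure. -/
theorem transfinite_of_locClosure {X : C} (hX : GabLoc.locClosure.{w} P X) :
    MorphismProperty.transfiniteCompositions.{w} (GabLoc.monoModSubquot.{w} P) (0 : (0 : C) ⟶ X) := by
  classical
  let L : Subobject X → Subobject X := fun A => if hA : A = ⊤ then ⊤ else (exists_larger P hX A hA).choose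
  have hlt : ∀ A, A ≠ ⊤ → A < L A := fun A hA => by
    simp only [L, dif_neg hA]; exact (exists_larger P hX A hA).choose_spec.choose
  have htop : L ⊤ = ⊤ := dif_pos rfl
  have hle : ∀ A, A ≤ L A := fun A => by
    by_cases hA : A = ⊤
    · subst hA; exact htop.ge
    · exact (hlt A hA).le
  have hmem : ∀ A, GabLoc.monoModSubquot.{w} P (Subobject.ofLE A (L A) (hle A)) := fun A => by
    by_cases hA : A = ⊤
    · subst hA
      haveI : IsIso (Subobject.ofLE ⊤ (L ⊤) (hle ⊤)) :=
        ⟨⟨Subobject.ofLE _ _ htop.le, by simp [Subobject.ofLE_comp_ofLE], by simp [Subobject.ofLE_comp_ofLE]⟩⟩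
      exact monoModSubquot_of_isIso P _
    · have key : ∀ (B : Subobject X) (hB : A ≤ B), B = (exists_larger P hX A hA).choose →
          GabLoc.monoModSubquot.{w} P (Subobject.ofLE A B hB) := by
        rintro B hB rfl
        exact (exists_larger P hX A hA).choose_spec.choose_spec
      exact key _ _ (dif_neg hA)
  let κ := Order.succ (Cardinal.mk (Shrink.{w} (Subobject X)))
  have : Nonempty κ.ord.ToType := by simp [κ]
  letI := WellFoundedLT.toOrderBot κ.ord.ToType
  let A₀ : Subobject X := Subobject.mk (0 : (0 : C) ⟶ X)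
  have hJ : HasCardinalLT (Subobject X) (Cardinal.mk κ.ord.ToType) :=
    lt_of_lt_of_le (Order.lt_succ _) (by simp [κ])
  obtain ⟨j, hj⟩ := top_mem_range_transfiniteIterate (J := κ.ord.ToType) L A₀ hlt htop
    (fun h => by simpa [hasCardinalLT_iff_cardinal_mk_lt] using hJ.of_injective _ h)
  let O := κ.ord.ToType
  have hmono := monotone_transfiniteIterate (J := O) L A₀ hle
  let M : O ⥤ MonoOver X :=
    { obj := fun i => MonoOver.mk (transfiniteIterate L i A₀).arrow
      map := fun {a b} f => MonoOver.homMk (Subobject.ofLE _ _ (hmono (leOfHom f))) (Subobject.ofLE_arrow _) }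
  let F : O ⥤ C := M ⋙ MonoOver.forget _ ⋙ Over.forget _
  haveI : F.IsWellOrderContinuous := ⟨fun m hm => ⟨by
    have := hm.nonempty_Iio.to_subtype
    let c := (Set.principalSegIio m).cocone (M ⋙ MonoOver.forget _)
    haveI : Mono c.pt.hom := inferInstanceAs (Mono (transfiniteIterate L m A₀).arrow)
    apply IsGrothendieckAbelian.isColimitMapCoconeOfSubobjectMkEqISup
      ((Set.principalSegIio m).monotone.functor ⋙ M) c
    show Subobject.mk (transfiniteIterate L m A₀).arrow =
      ⨆ i : Set.Iio m, Subobject.mk (transfiniteIterate L i.1 A₀).arrow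
    simp only [Subobject.mk_arrow]
    exact transfiniteIterate_limit L A₀ m hm⟩⟩
  have hiso : IsIso (transfiniteIterate L j A₀).arrow := (Subobject.isIso_arrow_iff_eq_top _).2 hj
  refine (MorphismProperty.transfiniteCompositions_iff _ _).2 ⟨Set.Iic j, inferInstance, inferInstance,
    inferInstance, inferInstance, ⟨?_⟩⟩
  exact
    { F := (Set.initialSegIic j).monotone.functor ⋙ F
      isoBot := Subobject.isoOfEq _ _ (transfiniteIterate_bot (J := O) L A₀) ≪≫ Subobject.underlyingIso _
      incl :=
        { app := fun k => (transfiniteIterate L k.1 A₀).arrow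
          naturality := fun k k' h => by
            show Subobject.ofLE _ _ _ ≫ (transfiniteIterate L k'.1 A₀).arrow = _ ≫ 𝟙 X
            rw [Subobject.ofLE_arrow, Category.comp_id]
            rfl }
      isColimit := IsColimit.ofIsoColimit (colimitOfDiagramTerminal isTerminalTop _)
        (Cocone.ext (@asIso _ _ _ _ _ hiso) fun k => Subobject.ofLE_arrow _)
      fac := (isZero_zero C).eq_of_src _ _
      map_mem := fun k hk => by
        have key : ∀ (B : Subobject X) (hB : transfiniteIterate L k.1 A₀ ≤ B),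
            B = L (transfiniteIterate L k.1 A₀) →
            GabLoc.monoModSubquot.{w} P (Subobject.ofLE _ B hB) := by
          rintro B hB rfl
          exact hmem _
        refine key _ _ ?_
        show transfiniteIterate L (Order.succ k).1 A₀ = _
        rw [Set.Iic.succ_eq_of_not_isMax hk, transfiniteIterate_succ _ _ _ (Set.not_isMax_coe _ hk)] }

/-- An object filtered by subquotients of coproducts lies in the localizing closure. -/
theorem locClosure_of_transfinite {X : C}
    (h : MorphismProperty.transfiniteCompositions.{w} (GabLoc.monoModSubquot.{w} P) (0 : (0 : C) ⟶ X)) :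
    GabLoc.locClosure.{w} P X := by
  obtain ⟨J, _, _, _, _, ⟨c⟩⟩ := (MorphismProperty.transfiniteCompositions_iff _ _).1 h
  intro Q hQ hPQ
  haveI := hQ.isSerreClass
  have hall : ∀ j, Q (c.F.obj j) := by
    intro j
    induction j using SuccOrder.limitRecOn with
    | isMin j hj =>
      obtain rfl := hj.eq_bot
      exact Q.prop_of_isZero ((isZero_zero C).of_iso c.isoBot)
    | succ j hj ih =>
      obtain ⟨hm, hc⟩ := c.map_mem j hj
      let f := c.F.map (homOfLE (Order.le_succ j))
      exact Q.prop_X₂_of_shortExact (S := ShortComplex.mk f (cokernel.π f) (cokernel.condition f))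
        { exact := ShortComplex.exact_of_g_is_cokernel _ (cokernelIsCokernel f) } ih
        (subquotCoprod_le P hQ hPQ _ hc)
    | isSuccLimit j hj ih =>
      let Z : Set.Iio j → C := fun i => c.F.obj i.1
      haveI : Epi (Sigma.desc (f := Z) fun i => c.F.map (homOfLE i.2.le)) := ⟨fun g g' hgg =>
        (c.F.isColimitOfIsWellOrderContinuous j hj).hom_ext fun i => by
          have := Sigma.ι Z i ≫= hgg
          rw [Sigma.ι_desc_assoc, Sigma.ι_desc_assoc] at this
          exact this⟩
      exact prop_of_epi_from_coproduct hQ Z (fun i => ih i.1 i.2) (Sigma.desc fun i => c.F.map (homOfLE i.2.le))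
  haveI : Epi (Sigma.desc (f := fun i => c.F.obj i) fun i => c.incl.app i) := ⟨fun g g' hgg =>
    c.isColimit.hom_ext fun i => by
      have := Sigma.ι (fun i => c.F.obj i) i ≫= hgg
      rw [Sigma.ι_desc_assoc, Sigma.ι_desc_assoc] at this
      exact this⟩
  exact prop_of_epi_from_coproduct hQ _ hall (Sigma.desc fun i => c.incl.app i)

end Groth.Agent.GabLib
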