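import Mathlib.CategoryTheory.Abelian.GrothendieckCategory.Subobject
import Mathlib.CategoryTheory.Abelian.GrothendieckCategory.EnoughInjectives
import Mathlib.CategoryTheory.Abelian.Refinements
import Mathlib.Algebra.Homology.ShortComplex.ShortExact
import Mathlib.Order.Zorn

/-!
# Indecomposable injective objects are uniform
-/

set_option autoImplicit false

universe w v u

open CategoryTheory CategoryTheory.Limits

namespace Groth.Agent.GabLib

variable {C : Type u} [Category.{v} C] [Abelian C] [IsGrothendieckAbelian.{w} C]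

/-- Supremum of a directed family of subobjects mapping monomorphically along `π`. -/
theorem mono_sup_of_directed {X Q : C} (π : X ⟶ Q) (J : Type w) [Preorder J] [Nonempty J] [IsDirectedOrder J]
    (s : J → Subobject X) (hs : Monotone s) (h : ∀ j, Mono ((s j).arrow ≫ π)) :
    ∃ T : Subobject X, Mono (T.arrow ≫ π) ∧ ∀ j, s j ≤ T := by
  let G : J ⥤ MonoOver Q :=
    { obj := fun j => haveI := h j; MonoOver.mk ((s j).arrow ≫ π)
      map := fun {a b} g => haveI := h a; haveI := h b
        MonoOver.homMk (Subobject.ofLE (s a) (s b) (hs (leOfHom g))) (Subobject.ofLE_arrow_assoc _ π)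
      map_id := fun a => Subsingleton.elim _ _
      map_comp := fun f g => Subsingleton.elim _ _ }
  let F' := G ⋙ MonoOver.forget _ ⋙ Over.forget _
  let k : Cocone F' := Cocone.mk X
    { app := fun j => (s j).arrow
      naturality := fun a b g => by
        show Subobject.ofLE (s a) (s b) (hs (leOfHom g)) ≫ (s b).arrow = (s a).arrow ≫ 𝟙 X
        rw [Subobject.ofLE_arrow, Category.comp_id] }
  let f := colimit.desc F' k
  haveI := IsGrothendieckAbelian.mono_of_isColimit_monoOver G (colimit.isColimit F') (f ≫ π) fun j => by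
    show colimit.ι F' j ≫ colimit.desc F' k ≫ π = _
    rw [colimit.ι_desc_assoc]
    rfl
  haveI : Mono f := mono_of_mono f π
  refine ⟨Subobject.mk f, ?_, fun j => ?_⟩
  · rw [← Subobject.underlyingIso_hom_comp_eq_mk f, Category.assoc]
    infer_instance
  · have h1 : Subobject.mk (s j).arrow ≤ Subobject.mk f :=
      Subobject.mk_le_mk_of_comm (colimit.ι F' j) (colimit.ι_desc k j)
    rwa [Subobject.mk_arrow] at h1

theorem mono_sup_of_chain {X Q : C} (π : X ⟶ Q) (c : Set (Subobject X)) (hc : IsChain (· ≤ ·) c)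
    (hne : c.Nonempty) (h : ∀ S ∈ c, Mono (S.arrow ≫ π)) :
    ∃ T : Subobject X, Mono (T.arrow ≫ π) ∧ ∀ S ∈ c, S ≤ T := by
  let e : Shrink.{w} c → Subobject X := fun j => ((equivShrink c).symm j).1
  letI : Preorder (Shrink.{w} c) := Preorder.lift e
  haveI : Nonempty (Shrink.{w} c) := ⟨equivShrink c ⟨hne.choose, hne.choose_spec⟩⟩
  haveI : IsDirectedOrder (Shrink.{w} c) := ⟨fun a b =>
    (hc.total ((equivShrink c).symm a).2 ((equivShrink c).symm b).2).elim
      (fun hab => ⟨b, hab, le_refl _⟩) fun hba => ⟨a, le_refl _, hba⟩⟩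
  obtain ⟨T, hT, hle⟩ := mono_sup_of_directed π _ e (fun _ _ hab => hab) fun j => h _ ((equivShrink c).symm j).2
  refine ⟨T, hT, fun S hS => ?_⟩
  simpa [e] using hle (equivShrink c ⟨S, hS⟩)

theorem exists_maximal_mono {X Q : C} (π : X ⟶ Q) (S₀ : Subobject X) (h₀ : Mono (S₀.arrow ≫ π)) :
    ∃ S, S₀ ≤ S ∧ Mono (S.arrow ≫ π) ∧ ∀ T, S ≤ T → Mono (T.arrow ≫ π) → T = S := by
  obtain ⟨S, hS0, hS⟩ := zorn_le_nonempty₀ {S : Subobject X | Mono (S.arrow ≫ π)}
    (fun c hcs hc y hy => mono_sup_of_chain π c hc ⟨y, hy⟩ fun T hT => hcs hT) S₀ h₀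
  exact ⟨S, hS0, hS.prop, fun T hT hm => (hS.eq_of_le hm hT).symm⟩

omit [IsGrothendieckAbelian.{w} C] in
theorem mono_cokernel_symm {X A B : C} (a : A ⟶ X) (b : B ⟶ X) [Mono a] [Mono b]
    (h : Mono (a ≫ cokernel.π b)) : Mono (b ≫ cokernel.π a) := by
  refine Preadditive.mono_of_cancel_zero _ fun {Z} z hz => ?_
  let l := Abelian.monoLift a (z ≫ b) (by rw [Category.assoc]; exact hz)
  have hl : l ≫ a = z ≫ b := Abelian.monoLift_comp _ _ _
  have : l = 0 := by
    rw [← cancel_mono (a ≫ cokernel.π b), zero_comp, ← Category.assoc, hl, Category.assoc,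
      cokernel.condition, comp_zero]
  rw [← cancel_mono b, zero_comp, ← hl, this, zero_comp]

/-- An injective object splits along a maximal pair of disjoint subobjects, the second one containing a given
subobject disjoint from the first; when the given first one is zero, the second summand is an essential extension. -/
theorem exists_summand_maximal (E : C) [Injective E] {A₁ A₂ : C} (a₁ : A₁ ⟶ E) (a₂ : A₂ ⟶ E) [Mono a₁] [Mono a₂]
    (h : Mono (a₁ ≫ cokernel.π a₂)) :
    ∃ (A B : C) (_ : E ≅ A ⊞ B) (iB : B ⟶ E) (l₁ : A₁ ⟶ A) (l₂ : A₂ ⟶ B), Mono l₁ ∧ Mono l₂ ∧ Mono iB ∧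
      Injective B ∧ l₂ ≫ iB = a₂ ∧
      ∀ ⦃K : C⦄ (z : K ⟶ B), Mono (z ≫ cokernel.π l₂) → z = 0 := by
  obtain ⟨M, hM1, hM, hMmax⟩ := exists_maximal_mono (cokernel.π a₂) (Subobject.mk a₁) (by
    rw [← Subobject.underlyingIso_hom_comp_eq_mk a₁, Category.assoc]; infer_instance)
  haveI := hM
  obtain ⟨N, hN2, hN, hNmax⟩ := exists_maximal_mono (cokernel.π M.arrow) (Subobject.mk a₂) (by
    haveI := mono_cokernel_symm M.arrow a₂ hM
    rw [← Subobject.underlyingIso_hom_comp_eq_mk a₂, Category.assoc]; infer_instance)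
  let p := cokernel.π N.arrow
  haveI : Mono (M.arrow ≫ p) := mono_cokernel_symm N.arrow M.arrow hN
  let r : cokernel N.arrow ⟶ E := Injective.factorThru M.arrow (M.arrow ≫ p)
  have hr : M.arrow ≫ p ≫ r = M.arrow := by
    rw [← Category.assoc]; exact Injective.comp_factorThru _ _
  let d := p ≫ r ≫ cokernel.π a₂
  let N' := Subobject.mk (kernel.ι d)
  have hN' : N' = N := by
    refine hNmax _ (Subobject.le_mk_of_comm (kernel.lift d N.arrow ?_) (kernel.lift_ι _ _ _)) ?_
    · simp [d, p]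
    haveI : Mono (kernel.ι d ≫ cokernel.π M.arrow) := by
      refine Preadditive.mono_of_cancel_zero _ fun {Z} z hz => ?_
      let l := Abelian.monoLift M.arrow (z ≫ kernel.ι d) (by rw [Category.assoc]; exact hz)
      have hl : l ≫ M.arrow = z ≫ kernel.ι d := Abelian.monoLift_comp _ _ _
      have h0 : l = 0 := by
        rw [← cancel_mono (M.arrow ≫ cokernel.π a₂), zero_comp]
        calc l ≫ M.arrow ≫ cokernel.π a₂ = l ≫ (M.arrow ≫ p ≫ r) ≫ cokernel.π a₂ := by rw [hr]
          _ = (l ≫ M.arrow) ≫ d := by simp [d]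
          _ = 0 := by rw [hl, Category.assoc, kernel.condition, comp_zero]
      rw [← cancel_mono (kernel.ι d), zero_comp, ← hl, h0, zero_comp]
    rw [← Subobject.underlyingIso_hom_comp_eq_mk (kernel.ι d), Category.assoc]
    infer_instance
  have hd : kernel.ι d ≫ p = 0 := by
    rw [← Subobject.underlyingIso_arrow (kernel.ι d), Category.assoc]
    have : N'.arrow ≫ p = 0 := by rw [hN']; exact cokernel.condition _
    rw [this, comp_zero]
  haveI hrm : Mono (r ≫ cokernel.π a₂) := by
    refine Preadditive.mono_of_cancel_zero _ fun {Z} z hz => ?_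
    obtain ⟨Z', e, he, y, hy⟩ := surjective_up_to_refinements_of_epi p z
    have h0 : y ≫ d = 0 := by
      rw [show y ≫ d = (y ≫ p) ≫ r ≫ cokernel.π a₂ by simp [d], ← hy, Category.assoc, hz, comp_zero]
    rw [← cancel_epi e, comp_zero, hy, ← kernel.lift_ι d y h0, Category.assoc, hd, comp_zero]
  haveI : Mono r := mono_of_mono r (cokernel.π a₂)
  have hMr : Subobject.mk r = M := by
    refine hMmax _ (Subobject.le_mk_of_comm (M.arrow ≫ p) (by rw [Category.assoc, hr])) ?_
    rw [← Subobject.underlyingIso_hom_comp_eq_mk r, Category.assoc]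
    infer_instance
  let s : cokernel N.arrow ⟶ (M : C) := Subobject.ofMkLE r M hMr.le
  have hs : s ≫ M.arrow = r := Subobject.ofMkLE_arrow _
  let π := p ≫ s
  have hMπ : M.arrow ≫ π = 𝟙 _ := by
    rw [← cancel_mono M.arrow, Category.assoc, Category.assoc, hs, Category.id_comp, hr]
  haveI : Epi π := (SplitEpi.mk M.arrow hMπ).epi
  let S := ShortComplex.mk (kernel.ι π) π (kernel.condition π)
  have hS : S.Exact := S.exact_of_f_is_kernel (kernelIsKernel π)
  let sp : S.Splitting := ShortComplex.Splitting.ofExactOfSection S hS M.arrow hMπ (inferInstanceAs (Mono (kernel.ι π)))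
  let i₂ : (Subobject.mk a₂ : C) ⟶ kernel π := kernel.lift π ((Subobject.mk a₂).arrow) (by
    rw [← Subobject.ofLE_arrow hN2, Category.assoc]
    simp [π, p])
  let sE : E ≅ (M : C) ⊞ kernel π := sp.isoBinaryBiproduct ≪≫ biprod.braiding _ _
  have hiB : i₂ ≫ kernel.ι π = (Subobject.mk a₂).arrow := kernel.lift_ι _ _ _
  let l₂ : A₂ ⟶ kernel π := (Subobject.underlyingIso a₂).inv ≫ i₂
  have hl₂ : l₂ ≫ kernel.ι π = a₂ := by
    simp only [l₂, Category.assoc, hiB, Subobject.underlyingIso_arrow]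
  haveI : Mono i₂ := mono_of_mono_fac hiB
  refine ⟨(M : C), kernel π, sE, kernel.ι π, Subobject.ofMkLE a₁ M hM1, l₂, inferInstance, inferInstance,
    inferInstance, Retract.injective ⟨kernel.ι π, sp.r, sp.f_r⟩, hl₂, fun K z hz => ?_⟩
  have hmk : Mono (biprod.desc M.arrow (z ≫ kernel.ι π) ≫ cokernel.π a₂) := by
    refine Preadditive.mono_of_cancel_zero _ fun {Z} v hv => ?_
    let t := Abelian.monoLift a₂ (v ≫ biprod.desc M.arrow (z ≫ kernel.ι π)) (by rw [Category.assoc]; exact hv)
    have ht : t ≫ a₂ = v ≫ biprod.desc M.arrow (z ≫ kernel.ι π) := Abelian.monoLift_comp _ _ _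
    have h1 : v ≫ biprod.fst = 0 := by
      have h2 := ht =≫ π
      rw [← hl₂, Category.assoc, Category.assoc, kernel.condition, comp_zero, comp_zero] at h2
      simp only [biprod.desc_eq, Preadditive.comp_add, Preadditive.add_comp, Category.assoc, hMπ,
        kernel.condition, comp_zero, add_zero, Category.comp_id] at h2
      exact h2.symm
    have h3 : v ≫ biprod.snd = 0 := by
      have h4 : t ≫ l₂ = (v ≫ biprod.snd) ≫ z := by
        rw [← cancel_mono (kernel.ι π), Category.assoc, hl₂, ht]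
        simp only [biprod.desc_eq, Preadditive.comp_add, Category.assoc]
        rw [← Category.assoc v biprod.fst, h1, zero_comp, zero_add]
      rw [← cancel_mono (z ≫ cokernel.π l₂), zero_comp, ← Category.assoc, ← h4, Category.assoc,
        cokernel.condition, comp_zero]
    apply biprod.hom_ext <;> simp [h1, h3]
  haveI : Mono (biprod.desc M.arrow (z ≫ kernel.ι π)) := mono_of_mono _ (cokernel.π a₂)
  have hMK : Subobject.mk (biprod.desc M.arrow (z ≫ kernel.ι π)) = M :=
    hMmax _ (Subobject.le_mk_of_comm biprod.inl (by simp))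
      (by rw [← Subobject.underlyingIso_hom_comp_eq_mk (biprod.desc M.arrow (z ≫ kernel.ι π)), Category.assoc]
          infer_instance)
  let s' := Subobject.ofMkLE (biprod.desc M.arrow (z ≫ kernel.ι π)) M hMK.le
  have hs' : (biprod.inr ≫ s') ≫ M.arrow = z ≫ kernel.ι π := by
    rw [Category.assoc, Subobject.ofMkLE_arrow, biprod.inr_desc]
  have h5 : biprod.inr ≫ s' = (0 : K ⟶ (M : C)) := by
    have h6 := hs' =≫ π
    rwa [Category.assoc, hMπ, Category.comp_id, Category.assoc, kernel.condition, comp_zero] at h6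
  rw [← cancel_mono (kernel.ι π), ← hs', h5, zero_comp, zero_comp]

/-- An indecomposable injective object is uniform. -/
theorem exists_summand (E : C) [Injective E] {A₁ A₂ : C} (a₁ : A₁ ⟶ E) (a₂ : A₂ ⟶ E) [Mono a₁] [Mono a₂]
    (h : Mono (a₁ ≫ cokernel.π a₂)) :
    ∃ (A B : C) (_ : E ≅ A ⊞ B) (l₁ : A₁ ⟶ A) (l₂ : A₂ ⟶ B), Mono l₁ ∧ Mono l₂ := by
  obtain ⟨A, B, e, -, l₁, l₂, h₁, h₂, -⟩ := exists_summand_maximal E a₁ a₂ h
  exact ⟨A, B, e, l₁, l₂, h₁, h₂⟩

open ZeroObject in
/-- Injective hulls: every object has a monomorphism to an injective in which it meets every nonzero subobject. -/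
theorem exists_essential_injective (F : C) :
    ∃ (E : C) (i : F ⟶ E), Mono i ∧ Injective E ∧ ∀ ⦃K : C⦄ (z : K ⟶ E), Mono (z ≫ cokernel.π i) → z = 0 := by
  obtain ⟨⟨I, hI, f, hf⟩⟩ := EnoughInjectives.presentation F
  haveI : Mono (0 : (0 : C) ⟶ I) := (isZero_zero C).mono _
  haveI : Mono ((0 : (0 : C) ⟶ I) ≫ cokernel.π f) := (isZero_zero C).mono _
  obtain ⟨A, B, -, iB, -, l₂, -, h₂, -, hB, -, hess⟩ := exists_summand_maximal I (0 : (0 : C) ⟶ I) f inferInstance
  exact ⟨B, l₂, h₂, hB, hess⟩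

end Groth.Agent.GabLib
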